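import Cfsg.Agent.Lib.SporadicB.J1.Basic

/-!
Data for the multiplier and the automorphisms of the first Janko group.
-/

set_option autoImplicit false

namespace CfsgLib.JankoOne

open CfsgLib.SporadicB.J1Cert

/-- An element of order 11 of the point stabiliser. -/
def iA : Fin 660 := 3

/-- An element of order 5 normalising it. -/
def iE : Fin 660 := 223

/-- An element of order 10 normalising `⟨a⟩`. -/
def pB : Fin 660 × Fin 266 := (601, 222)

/-- An element inverting `b`. -/
def pF : Fin 660 × Fin 266 := (311, 22)

/-- Cosets times `a`. -/
def traTbl : List (Nat × Nat) := [(3, 0), (151, 143), (521, 39), (567, 176), (462, 168), (124, 110), (12, 124), (187, 166), (79, 193), (151, 47), (385, 87), (87, 151), (143, 62), (47, 32), (552, 161), (501, 192), (321, 260), (403, 178), (113, 149), (612, 44), (102, 101), (552, 3), (64, 95), (412, 219), (61, 74), (269, 240), (75, 80), (190, 92), (616, 76), (434, 132), (567, 138), (548, 9), (331, 185), (321, 198), (81, 40), (632, 60), (586, 81), (458, 235), (107, 202), (111, 29), (37, 230), (567, 42), (535, 2), (623, 174), (374, 182), (656, 99), (394, 82), (143, 167),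 (567, 5), (513, 133), (356, 94), (51, 180), (275, 254), (263, 134), (470, 21), (562, 252), (434, 122), (59, 139), (552, 191), (307, 116), (430, 49), (7, 120), (434, 34), (429, 106), (520, 131), (260, 224), (76, 23), (336, 48), (63, 103), (178, 100), (434, 4), (169, 86), (591, 24), (484, 141), (348, 54), (177, 25), (107, 203), (132, 210), (407, 75), (429, 109), (76, 13), (334, 215), (187, 63), (226, 226), (390, 31), (61, 187), (659, 50), (76, 172), (640, 79), (304, 163), (131, 118), (502, 30), (535, 11), (357, 173), (612, 236), (187, 244), (282, 126), (646, 179), (547, 177), (185, 66), (191, 169), (6, 220), (526, 164), (346, 26), (331, 35), (51, 67), (223, 238), (321, 155), (374, 156), (26, 117), (605, 257), (414, 71), (394, 171), (67, 57), (567, 18), (615, 7), (88, 46), (293, 183), (384, 186), (60, 58), (488, 195), (348, 217), (89, 200), (574, 250), (311, 212), (325, 227), (111, 93), (420, 241), (296, 142), (498, 115), (11, 206), (197, 130), (187, 251), (573, 242), (567, 8), (593, 61), (449, 96), (420, 239), (29, 55), (339, 136), (133, 158), (318, 68), (140, 205), (26, 70), (247, 104), (438, 65), (245, 232),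 (128, 90), (178, 12), (390, 265), (503, 69), (356, 28), (640, 89), (578, 14), (3, 128), (313, 129), (193, 52), (263, 246), (639, 204), (282, 127), (552, 97), (127, 196), (560, 123), (43, 119), (229, 107), (633, 208), (514, 20), (58, 64), (45, 256), (204, 125), (639, 77), (187, 22), (111, 98), (241, 19), (461, 33), (5, 144), (324, 223), (614, 261), (640, 36), (344, 213), (387, 253), (336, 159), (109, 113), (640, 83), (406, 175), (168, 199), (108, 188), (56, 184), (206, 15), (578, 84), (382, 112), (257, 234), (176, 153), (111, 10), (250, 53), (442, 152), (308, 147), (542, 225), (128, 207), (375, 211), (479, 264), (305, 105), (34, 78), (313, 160), (643, 150), (64, 1), (239, 209), (351, 243), (3, 216), (438, 189), (127, 72), (470, 73), (137, 231), (329, 27), (458, 229), (488, 111), (394, 249), (170, 41), (283, 263), (309, 162), (653, 102), (492, 37), (145, 222), (293, 170), (484, 258), (290, 121), (283, 165), (271, 245), (111, 148), (371, 91), (384, 181), (644, 201), (78, 43), (458, 59), (616, 135), (99, 146), (609, 17), (616, 154), (448, 137), (24, 255), (446, 259), (84, 228), (510, 85), (173, 221), (339, 248),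 (570, 247), (219, 190), (195, 140), (448, 218), (615, 88), (213, 51), (636, 197), (53, 56), (640, 45), (130, 262), (658, 233), (4, 237), (61, 6), (458, 38), (298, 145), (145, 108), (271, 194), (37, 114), (203, 157), (66, 214), (458, 16)]

/-- Cosets times `e`. -/
def treTbl : List (Nat × Nat) := [(223, 0), (300, 164), (109, 225), (8, 89), (352, 115), (18, 252), (43, 264), (324, 67), (319, 32), (367, 170), (129, 13), (256, 136), (391, 49), (593, 76), (359, 256), (463, 143), (158, 117), (478, 71), (455, 249), (324, 240), (77, 105), (251, 135), (149, 22), (270, 51), (415, 119), (18, 8), (22, 203), (218, 96), (4, 139), (559, 197), (189, 153), (81, 54), (245, 213), (523, 148), (155, 60), (653, 140), (530, 111), (277, 34), (218, 10), (399, 2), (590, 187), (514, 121), (169, 39), (418, 12), (150, 258), (639, 219), (66, 174), (516, 74), (494, 229), (557, 247), (332, 36), (546, 45), (188, 79), (69, 185), (21, 163), (113, 192), (618, 15), (516, 75), (476, 262), (307, 33), (27, 100), (415, 52), (170, 184), (146, 43), (600, 24), (415, 53), (375, 23), (476, 56), (350, 160), (186, 137), (512, 102), (421, 81), (269, 120),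 (444, 97), (333, 61), (309, 177), (85, 173), (195, 195), (119, 193), (142, 47), (520, 27), (499, 236), (131, 221), (643, 31), (373, 77), (384, 150), (301, 50), (491, 73), (6, 209), (107, 108), (42, 4), (470, 118), (95, 44), (241, 259), (633, 86), (585, 263), (38, 145), (285, 113), (542, 211), (218, 180), (460, 116), (426, 257), (526, 110), (102, 92), (419, 169), (75, 91), (240, 243), (167, 5), (483, 109), (387, 206), (75, 214), (649, 94), (526, 95), (652, 224), (464, 83), (633, 124), (214, 37), (335, 9), (111, 128), (332, 260), (488, 149), (76, 217), (22, 196), (565, 99), (197, 138), (300, 59), (67, 202), (291, 242), (366, 20), (495, 48), (93, 72), (319, 176), (188, 42), (275, 69), (259, 68), (100, 265), (332, 78), (115, 207), (162, 90), (209, 65), (381, 255), (427, 11), (52, 107), (98, 7), (500, 158), (476, 172), (236, 62), (413, 142), (126, 175), (123, 183), (227, 46), (54, 19), (358, 18), (390, 1), (397, 155), (292, 212), (182, 165), (247, 190), (639, 82), (38, 104), (123, 93), (290, 205), (85, 250), (91, 114), (544, 231), (539, 84), (283, 6), (58, 223), (445, 220), (399, 238), (511, 191), (149, 157),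 (596, 80), (507, 38), (653, 181), (130, 125), (297, 234), (365, 26), (626, 17), (201, 126), (495, 162), (576, 85), (571, 25), (12, 130), (68, 204), (49, 28), (108, 70), (114, 227), (184, 154), (578, 21), (406, 246), (421, 16), (164, 237), (111, 141), (97, 103), (300, 156), (118, 168), (631, 41), (365, 230), (2, 179), (44, 188), (275, 122), (21, 261), (164, 57), (250, 239), (521, 166), (600, 3), (249, 228), (631, 64), (346, 210), (532, 58), (83, 151), (160, 200), (586, 182), (458, 186), (630, 215), (359, 189), (324, 29), (48, 112), (309, 66), (280, 201), (492, 241), (451, 222), (47, 152), (263, 87), (13, 132), (258, 131), (554, 106), (654, 133), (19, 14), (485, 35), (208, 30), (302, 159), (104, 235), (14, 254), (350, 127), (609, 178), (272, 101), (479, 232), (470, 146), (535, 98), (106, 144), (37, 245), (600, 40), (525, 171), (236, 233), (481, 244), (586, 63), (39, 218), (573, 167), (53, 123), (617, 251), (432, 147), (375, 253), (586, 226), (85, 198), (454, 129), (604, 55), (433, 194), (136, 134), (586, 208), (583, 199), (223, 88), (572, 248), (440, 161), (397, 216)]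

/-- Cosets fixed by `a`. -/
def fixA : List Nat := [0, 222]

/-- Cosets fixed by `e`. -/
def fixE : List Nat := [0, 22, 215, 222, 251, 253]

/-- Relations in `a`, `b`, `f`. -/
def relWords : List (List Nat) := [[1, 0, 2, 0, 2, 1, 0, 2, 0, 2, 1, 0, 2, 0, 2]]

/-- `X` in `a`, `b`, `f`. -/
def wordX : List Nat := [0, 1, 1, 2, 0, 0, 0, 2, 0, 0, 2, 1, 0, 0, 2]

/-- `Y` in `a`, `b`, `f`. -/
def wordY : List Nat := [0, 1, 1, 2, 0, 2, 1, 1, 1, 0, 1, 2, 0]

/-- Generators of an elementary abelian subgroup of order 8 and an element of order 7 normalising it. -/
def pU : Fin 660 × Fin 266 := (364, 94)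
/-- The second generator. -/
def pV : Fin 660 × Fin 266 := (99, 98)
/-- The third generator. -/
def pW : Fin 660 × Fin 266 := (313, 33)
/-- The element of order 7. -/
def pG : Fin 660 × Fin 266 := (382, 230)

end CfsgLib.JankoOne
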