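import Cfsg.Agent.Lib.JankoOne.Data

/-!
Kernel checked facts on elements of the first Janko group: the centralisers of an element of order
`11` and of an element of order `10`, relations and a generating triple.
-/

set_option autoImplicit false
set_option maxRecDepth 100000

namespace CfsgLib.JankoOne

open CfsgLib.SporadicB.J1Cert

attribute [local irreducible] mm meq hEl tEl

/-- An element by indices. -/
noncomputable def el (p : Fin 660 × Fin 266) : J := hU p.1 * tU p.2

/-- Its matrix. -/
def elM (p : Fin 660 × Fin 266) : M7 := mm (hEl p.1) (tEl p.2)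

theorem reps_el (p : Fin 660 × Fin 266) : Reps (elM p) (el p) := (reps_hU p.1).mul (reps_tU p.2)

/-- All entries are reduced. -/
def Red (A : M7) : Prop := ∀ i j, (A.row i).get j < 11

theorem red_one : Red one := by unfold Red; decide

theorem red_mm (A B : M7) : Red (mm A B) := by
  intro i j
  unfold mm mmT rowMul
  fin_cases i <;> fin_cases j <;> exact Nat.mod_lt _ (by norm_num)

theorem meq_of_toMat_eq {A B : M7} (hA : Red A) (hB : Red B) (h : toMat A = toMat B) :
    meq A B = true := by
  have g : ∀ i j, (A.row i).get j = (B.row i).get j := fun i j => by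
    have := (ZMod.natCast_eq_natCast_iff' _ _ _).mp (congrFun (congrFun h i) j)
    rwa [Nat.mod_eq_of_lt (hA i j), Nat.mod_eq_of_lt (hB i j)] at this
  have key : ∀ u v : V7, (∀ j, u.get j = v.get j) → veq u v = true := fun u v huv => by
    have := (⟨huv 0, huv 1, huv 2, huv 3, huv 4, huv 5, huv 6⟩ : _ ∧ _ ∧ _ ∧ _ ∧ _ ∧ _ ∧ _)
    simp only [V7.get, Matrix.cons_val] at this
    simp [veq, this]
  unfold meq
  simp only [Bool.and_eq_true]
  exact ⟨⟨⟨⟨⟨⟨key _ _ (g 0), key _ _ (g 1)⟩, key _ _ (g 2)⟩, key _ _ (g 3)⟩, key _ _ (g 4)⟩,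
    key _ _ (g 5)⟩, key _ _ (g 6)⟩

/-- The element `a`. -/
noncomputable def a : J := hU iA
/-- The element `e`. -/
noncomputable def e : J := hU iE
/-- The element `b`. -/
noncomputable def b : J := el pB
/-- The element `f`. -/
noncomputable def f : J := el pF

/-- Matrix of a word in listed matrices. -/
def wM (ms : List M7) : List Nat → M7
  | [] => one
  | k :: w => mm (ms.getD k one) (wM ms w)

/-- Product of a word in listed elements. -/
def wG {G : Type*} [Group G] (gs : List G) : List Nat → G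
  | [] => 1
  | k :: w => gs.getD k 1 * wG gs w

theorem reps_wM {ms : List M7} {gs : List J} (h : List.Forall₂ Reps ms gs) :
    ∀ w : List Nat, Reps (wM ms w) (wG gs w)
  | [] => reps_one
  | k :: w => by
    refine Reps.mul ?_ (reps_wM h w)
    clear w
    induction h generalizing k with
    | nil => exact reps_one
    | cons hx _ ih =>
      cases k with
      | zero => exact hx
      | succ k => exact ih k

theorem red_wM (ms : List M7) : ∀ w : List Nat, Red (wM ms w)
  | [] => red_one
  | _ :: _ => red_mm _ _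

theorem map_wG {G : Type*} [Group G] (φ : MulAut G) (gs : List G) :
    ∀ w : List Nat, φ (wG gs w) = wG (gs.map φ) w
  | [] => map_one φ
  | k :: w => by
    rw [wG, wG, map_mul, map_wG φ gs w]
    congr 1
    have := List.getD_map (f := ⇑φ) (l := gs) (d := (1 : G)) (n := k)
    rw [map_one] at this
    exact this.symm

theorem wG_mem {G : Type*} [Group G] {H : Subgroup G} {gs : List G} (h : ∀ g ∈ gs, g ∈ H) :
    ∀ w : List Nat, wG gs w ∈ H
  | [] => one_mem H
  | k :: w => by
    refine mul_mem ?_ (wG_mem h w)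
    by_cases hk : k < gs.length
    · rw [List.getD_eq_getElem _ _ hk]; exact h _ (List.getElem_mem hk)
    · rw [List.getD_eq_default _ _ (by omega)]; exact one_mem H

/-- Matrices of `a`, `b`, `f`. -/
def triple : List M7 := [hEl iA, elM pB, elM pF]

theorem reps_triple : List.Forall₂ Reps triple [a, b, f] :=
  .cons (reps_hU iA) (.cons (reps_el pB) (.cons (reps_el pF) .nil))

theorem checkTra : ((List.range 266).all fun j =>
    decide ((traTbl.getD j (0, 0)).1 < 660) && decide ((traTbl.getD j (0, 0)).2 < 266) &&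
      meq (mm (tEl j) (hEl iA)) (elem (traTbl.getD j (0, 0))) &&
      ((traTbl.getD j (0, 0)).2 != j || fixA.contains j)) = true := by
  decide +kernel

theorem checkTre : ((List.range 266).all fun j =>
    decide ((treTbl.getD j (0, 0)).1 < 660) && decide ((treTbl.getD j (0, 0)).2 < 266) &&
      meq (mm (tEl j) (hEl iE)) (elem (treTbl.getD j (0, 0))) &&
      ((treTbl.getD j (0, 0)).2 != j || fixE.contains j)) = true := by
  decide +kernel

/-- An element commuting with some element of the stabiliser fixes the coset. -/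
theorem fixed_coset {x : Fin 660} {tbl : List (Nat × Nat)} {fix : List Nat}
    (hchk : ((List.range 266).all fun j =>
      decide ((tbl.getD j (0, 0)).1 < 660) && decide ((tbl.getD j (0, 0)).2 < 266) &&
        meq (mm (tEl j) (hEl x)) (elem (tbl.getD j (0, 0))) &&
        ((tbl.getD j (0, 0)).2 != j || fix.contains j)) = true)
    (i : Fin 660) (j : Fin 266) (hc : hU i * tU j * hU x = hU x * (hU i * tU j)) :
    (j : Nat) ∈ fix := by
  simp only [List.all_eq_true, List.mem_range, Bool.and_eq_true, decide_eq_true_eq,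
    Bool.or_eq_true, bne_iff_ne, List.contains_iff_mem] at hchk
  obtain ⟨⟨⟨h1, h2⟩, he⟩, hor⟩ := hchk j j.2
  refine hor.resolve_left (fun hne => hne ?_)
  have e1 := ((reps_tU j).mul (reps_hU x)).eq (reps_elem h1 h2) he
  obtain ⟨k, hk⟩ := range_mul i ⟨_, h1⟩
  obtain ⟨l, hl⟩ := range_mul x i
  rw [mul_assoc, e1, ← mul_assoc, ← mul_assoc, hk, hl] at hc
  exact congrArg (fun q : Fin 660 × Fin 266 => (q.2 : Nat)) (bij.1 (a₁ := (k, ⟨_, h2⟩)) (a₂ := (l, j)) hc)

theorem checkCentA : (fixA.all fun j => (List.range 660).all fun i =>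
    !meq (mm (mm (hEl i) (tEl j)) (hEl iA)) (mm (hEl iA) (mm (hEl i) (tEl j))) ||
      (List.range 11).any fun k => meq (mm (mm (hEl i) (tEl j)) one) (powM (hEl iA) k)) = true := by
  decide +kernel

theorem checkCentB : (fixE.all fun j => (List.range 660).all fun i =>
    !meq (mm (mm (hEl i) (tEl j)) (elM pB)) (mm (elM pB) (mm (hEl i) (tEl j))) ||
      (List.range 10).any fun k => meq (mm (mm (hEl i) (tEl j)) one) (powM (elM pB) k)) = true := by
  decide +kernel

theorem checkRel : (meq (powM (hEl iA) 11) one && meq (powM (elM pB) 10) one &&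
    meq (mm (elM pB) (hEl iA)) (mm (powM (hEl iA) 2) (elM pB)) &&
    meq (mm (powM (elM pB) 6) one) (mm (hEl iE) one) &&
    meq (mm (elM pF) (elM pB)) (mm (powM (elM pB) 9) (elM pF)) &&
    meq (wM triple wordX) (mm matX one) && meq (wM triple wordY) (mm matY one) &&
    relWords.all (fun w => meq (wM triple w) one) &&
    (List.range 10).all (fun i => i == 0 ||
      relWords.any fun w => !meq (wM [hEl iA, elM pB, mm (elM pF) (powM (elM pB) i)] w) one)) = true := by
  decide +kernel

theorem a_ne_one : a ≠ 1 :=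
  not_one_of (reps_hU iA) (by rw [← toMat_one]; exact toMat_ne (by decide +kernel))

theorem mm_one_eq {A : M7} {g : J} (h : Reps A g) : Reps (mm A one) g := by
  have := h.mul reps_one
  rwa [mul_one] at this

theorem mem_zpowers_of_comm_a {g : J} (hg : g * a = a * g) : g ∈ Subgroup.zpowers a := by
  obtain ⟨i, j, rfl⟩ := cover g
  have hj := fixed_coset checkTra i j hg
  have h := checkCentA
  simp only [List.all_eq_true, List.any_eq_true, List.mem_range, Bool.or_eq_true,
    Bool.not_eq_true'] at h
  have r1 := ((reps_hU i).mul (reps_tU j)).mul (reps_hU iA)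
  have r2 := (reps_hU iA).mul ((reps_hU i).mul (reps_tU j))
  rcases h j hj i i.2 with h | ⟨k, -, hk⟩
  · have e : toMat (mm (mm (hEl i) (tEl j)) (hEl iA)) = toMat (mm (hEl iA) (mm (hEl i) (tEl j))) := by
      rw [← r1, ← r2]; exact congrArg mat hg
    exact absurd h (by rw [meq_of_toMat_eq (red_mm _ _) (red_mm _ _) e]; exact Bool.noConfusion)
  · rw [(mm_one_eq ((reps_hU i).mul (reps_tU j))).eq (pow_reps (reps_hU iA) k) hk]
    exact Subgroup.npow_mem_zpowers a k

theorem rel_facts : a ^ 11 = 1 ∧ b ^ 10 = 1 ∧ b * a * b⁻¹ = a ^ 2 ∧ b ^ 6 = e ∧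
    f * b * f⁻¹ = b ^ 9 ∧ wG [a, b, f] wordX = gx ∧ wG [a, b, f] wordY = gy ∧
    ∀ w ∈ relWords, wG [a, b, f] w = 1 := by
  have h := checkRel
  simp only [Bool.and_eq_true, List.all_eq_true] at h
  obtain ⟨⟨⟨⟨⟨⟨⟨⟨h1, h2⟩, h3⟩, h4⟩, h5⟩, h6⟩, h7⟩, h8⟩, -⟩ := h
  have rb := reps_el pB
  refine ⟨(pow_reps (reps_hU iA) 11).eq reps_one h1, (pow_reps rb 10).eq reps_one h2, ?_,
    (mm_one_eq (pow_reps rb 6)).eq (mm_one_eq (reps_hU iE)) h4, ?_,
    (reps_wM reps_triple wordX).eq (mm_one_eq reps_x) h6,
    (reps_wM reps_triple wordY).eq (mm_one_eq reps_y) h7,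
    fun w hw => (reps_wM reps_triple w).eq reps_one (h8 w hw)⟩
  · rw [mul_inv_eq_iff_eq_mul]
    exact (rb.mul (reps_hU iA)).eq ((pow_reps (reps_hU iA) 2).mul rb) h3
  · rw [mul_inv_eq_iff_eq_mul]
    exact ((reps_el pF).mul rb).eq ((pow_reps rb 9).mul (reps_el pF)) h5

theorem exists_pow_of_comm_b {g : J} (hg : g * b = b * g) : ∃ k < 10, g = b ^ k := by
  obtain ⟨i, j, rfl⟩ := cover g
  have he : hU i * tU j * e = e * (hU i * tU j) := by
    rw [← rel_facts.2.2.2.1]; exact ((show Commute (hU i * tU j) b from hg).pow_right 6).eq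
  have hj := fixed_coset checkTre i j he
  have h := checkCentB
  simp only [List.all_eq_true, List.any_eq_true, List.mem_range, Bool.or_eq_true,
    Bool.not_eq_true'] at h
  have r1 := ((reps_hU i).mul (reps_tU j)).mul (reps_el pB)
  have r2 := (reps_el pB).mul ((reps_hU i).mul (reps_tU j))
  rcases h j hj i i.2 with h | ⟨k, hk', hk⟩
  · have e' : toMat (mm (mm (hEl i) (tEl j)) (elM pB)) = toMat (mm (elM pB) (mm (hEl i) (tEl j))) := by
      rw [← r1, ← r2]; exact congrArg mat hg
    exact absurd h (by rw [meq_of_toMat_eq (red_mm _ _) (red_mm _ _) e']; exact Bool.noConfusion)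
  · exact ⟨k, hk', (mm_one_eq ((reps_hU i).mul (reps_tU j))).eq (pow_reps (reps_el pB) k) hk⟩

theorem candidates : ∀ i < 10, i ≠ 0 → ∃ w ∈ relWords, wG [a, b, f * b ^ i] w ≠ 1 := by
  intro i hi h0
  have h := checkRel
  simp only [Bool.and_eq_true, List.all_eq_true, List.any_eq_true, List.mem_range, Bool.or_eq_true,
    beq_iff_eq, Bool.not_eq_true'] at h
  obtain ⟨w, hw, hne⟩ := (h.2 i hi).resolve_left h0
  refine ⟨w, hw, fun e1 => ?_⟩
  have r := reps_wM (.cons (reps_hU iA) (.cons (reps_el pB)
    (.cons ((reps_el pF).mul (pow_reps (reps_el pB) i)) .nil))) w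
  have e : toMat (wM [hEl iA, elM pB, mm (elM pF) (powM (elM pB) i)] w) = toMat one := by
    rw [← r]; exact (congrArg mat e1).trans (mat_one.trans toMat_one.symm)
  rw [meq_of_toMat_eq (red_wM _ _) red_one e] at hne
  exact Bool.noConfusion hne

end CfsgLib.JankoOne
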