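import Cfsg.Agent.Lib.JankoOne.Facts

/-!
Data for the centralizer of an involution of the first Janko group.
-/

set_option autoImplicit false

namespace CfsgLib.JankoOne

/-- An involution of the point stabiliser. -/
def iT : Fin 660 := 1

/-- Cosets times the involution. -/
def trtTbl : List (Nat × Nat) := [(1, 0), (408, 89), (423, 42), (420, 83), (171, 161), (629, 18), (338, 16), (637, 31), (521, 207), (384, 24), (417, 134), (197, 253), (207, 218), (213, 65), (408, 58), (621, 192), (495, 6), (47, 86), (629, 5), (516, 43), (351, 212), (546, 21), (131, 187), (469, 199), (351, 9), (14, 66), (405, 126), (46, 230), (283, 140), (512, 29), (521, 163), (462, 7), (28, 263), (251, 255), (466, 202), (57, 150), (156, 215), (632, 239), (474, 245), (403, 251), (503, 227), (200, 197), (419, 2), (603, 19), (53, 160), (213, 169), (424, 80), (134, 196), (77, 195), (144, 69), (81, 111), (34, 184), (256, 191), (524, 259), (467, 226), (381, 176), (616, 101), (157, 95), (247, 14), (266, 241), (394, 177), (79, 264), (165, 238), (265, 73), (546, 64), (154, 13), (14, 25), (475, 206), (70, 242), (36, 49), (113, 167), (282, 236), (473, 147), (472, 63), (191, 115), (216, 211), (473, 181), (417, 155), (258, 106), (451, 260), (392, 46), (626, 222), (511, 96), (288, 3), (438, 105), (515, 139), (66, 17), (575, 240), (113,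 135), (247, 1), (512, 90), (574, 256), (21, 125), (545, 175), (582, 178), (363, 57), (357, 82), (280, 232), (469, 100), (25, 172), (280, 98), (592, 56), (168, 110), (466, 144), (258, 133), (310, 84), (450, 78), (546, 186), (199, 234), (593, 257), (484, 102), (156, 50), (341, 151), (200, 146), (257, 164), (141, 74), (408, 224), (393, 220), (305, 210), (26, 168), (337, 149), (254, 217), (193, 124), (236, 174), (68, 122), (8, 92), (242, 26), (261, 258), (17, 216), (141, 165), (481, 152), (3, 143), (337, 132), (450, 104), (597, 10), (324, 88), (561, 141), (648, 248), (230, 205), (646, 85), (215, 28), (470, 136), (229, 223), (9, 131), (366, 103), (167, 157), (276, 113), (273, 72), (557, 185), (337, 120), (34, 35), (394, 112), (329, 130), (561, 254), (25, 229), (597, 77), (1, 156), (239, 145), (420, 190), (419, 247), (106, 44), (492, 4), (111, 233), (289, 30), (467, 114), (191, 129), (454, 201), (324, 70), (67, 119), (154, 45), (139, 208), (432, 180), (12, 99), (656, 250), (153, 123), (545, 93), (381, 55), (341, 60), (327, 94), (347, 182), (606, 171), (273, 76), (514, 179), (525, 252), (57, 51), (557, 148), (546, 107), (284, 22), (592, 262), (467, 209), (288, 158), (549, 52), (371, 15), (92, 243), (525, 246), (77, 48), (189, 47), (276, 41), (167, 221), (280, 23), (247, 265), (547, 166), (366, 34),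 (484, 213), (470, 261), (148, 138), (543, 67), (289, 8), (190, 170), (257, 189), (305, 118), (178, 75), (384, 20), (168, 203), (561, 249), (81, 36), (20, 128), (588, 121), (182, 12), (273, 228), (625, 117), (239, 198), (583, 81), (404, 142), (247, 116), (558, 225), (257, 54), (630, 40), (473, 219), (12, 154), (37, 27), (546, 231), (469, 97), (322, 162), (267, 108), (118, 244), (128, 71), (546, 237), (50, 62), (589, 37), (649, 87), (483, 59), (120, 68), (166, 193), (115, 235), (639, 38), (525, 194), (423, 159), (422, 137), (470, 214), (605, 173), (355, 39), (525, 183), (263, 11), (470, 153), (97, 33), (372, 91), (628, 109), (212, 127), (602, 53), (614, 79), (561, 204), (616, 188), (41, 32), (22, 61), (408, 200)]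

/-- Cosets fixed by the involution. -/
def fixT : List Nat := [0, 21, 29, 64, 90, 132, 156, 225, 231, 237]

/-- An involution of `A₅`. -/
def s5 : Equiv.Perm (Fin 5) := Equiv.swap 0 1 * Equiv.swap 2 3

/-- An element of order three of `A₅`. -/
def t5 : Equiv.Perm (Fin 5) :=
  Equiv.swap 1 2 * Equiv.swap 2 4

/-- The words of the elements of `A₅`. -/
def words5 : List (List Bool) := [[], [false], [true], [false, true], [true, false], [true, true], [false, true, false], [false, true, true], [true, false, true], [true, true, false], [false, true, false, true], [false, true, true, false], [true, false, true, false], [true, false, true, true], [true, true, false, true], [false, true, false, true, false], [false, true, false, true, true], [false, true, true, false, true], [true, false, true, false, true], [true, false, true, true, false], [true, true, false, true, false], [true, true, false, true, true], [false, true, false, true, false, true], [false, true, false, true, true, false], [false, true, true, false, true, false], [false, true, true, false, true, true], [true, false, true, false, true, true], [true, false, true, true, false, true], [true, true, false, true, false, true], [false, true, false, true, false, true, true], [false, true, false, true, true, false, true], [false, true, true, false,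 true, false, true], [true, false, true, false, true, true, false], [true, false, true, true, false, true, false], [true, false, true, true, false, true, true], [true, true, false, true, false, true, true], [false, true, false, true, false, true, true, false], [false, true, false, true, true, false, true, false], [false, true, false, true, true, false, true, true], [false, true, true, false, true, false, true, true], [true, false, true, false, true, true, false, true], [true, false, true, true, false, true, false, true], [true, true, false, true, false, true, true, false], [false, true, false, true, false, true, true, false, true], [false, true, false, true, true, false, true, false, true], [false, true, true, false, true, false, true, true, false], [true, false, true, false, true, true, false, true, false], [true, false, true, false, true, true, false, true, true], [true, false, true, true, false, true, false, true, true], [true, true, false, true, false, true, true, false, true], [false, true, false, true, false, true, true, false, true, false], [false, true, false, true, false, true, true, false, true, true], [false, true, false, true, true, false, true, false, true, true], [false, true, true, false, true, false, true, true, false, true], [true, false, true, true, false, true, false, true,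 true, false], [true, true, false, true, false, true, true, false, true, false], [false, true, false, true, true, false, true, false, true, true, false], [false, true, true, false, true, false, true, true, false, true, false], [true, false, true, true, false, true, false, true, true, false, true], [false, true, false, true, true, false, true, false, true, true, false, true]]

/-- The element attached to a permutation, by its code. -/
def altTbl : List (Nat × Fin 660 × Fin 266) := [(430, 0, 0), (326, 331, 156), (485, 644, 64), (366, 95, 225), (577, 260, 237), (420, 90, 231), (558, 474, 90), (271, 78, 21), (542, 522, 29), (204, 306, 132), (513, 175, 237), (59, 285, 21), (238, 93, 29), (507, 561, 90), (194, 642, 132), (117, 508, 64), (528, 405, 29), (89, 133, 156), (148, 83, 90), (111, 142, 225), (298, 175, 231), (139, 274, 132), (47, 260, 231), (240, 551, 29), (397, 361, 0), (44, 594, 225), (178, 644, 237), (96, 202, 21), (258, 154, 0), (82, 213, 0), (195, 484, 90), (402, 175, 64), (290, 260, 64), (384, 465, 21), (66, 323, 156), (353, 252, 64), (386, 536, 156), (279, 124, 225), (210, 508, 237), (482, 252, 231), (355, 508, 231), (429, 186, 156), (565, 90, 237), (476, 339, 225), (334, 648, 21), (586, 596, 132), (551, 87, 132), (345, 545, 0), (414, 532, 225), (535, 71, 29), (580, 109, 90), (446,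 227, 21), (269, 1, 156), (516, 99, 132), (222, 442, 90), (227, 515, 29), (73, 292, 0), (108, 644, 231), (142, 252, 237), (38, 90, 64)]

end CfsgLib.JankoOne
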