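import Cfsg.Agent.Lib.JankoOne.InvData
import Mathlib.GroupTheory.SpecificGroups.Alternating

/-!
The centralizer of an involution of the first Janko group is `2 × A₅`.
-/

set_option autoImplicit false
set_option maxRecDepth 100000

namespace CfsgLib.JankoOne

open CfsgLib.SporadicB.J1Cert Equiv

attribute [local irreducible] mm meq hEl tEl

/-- The code of a permutation of five points. -/
def code5 (g : Perm (Fin 5)) : Nat :=
  (g 0).val + 5 * (g 1).val + 25 * (g 2).val + 125 * (g 3).val

/-- The pair attached to a permutation. -/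
def lk (g : Perm (Fin 5)) : Fin 660 × Fin 266 :=
  ((altTbl.find? fun e => e.1 == code5 g).map Prod.snd).getD (0, 0)

/-- The element attached to a permutation. -/
noncomputable def F0 (g : Perm (Fin 5)) : J := el (lk g)

/-- The involution. -/
noncomputable def invol : J := hU iT

/-- The product of a word in `s5` and `t5`. -/
def ev5 (w : List Bool) : Perm (Fin 5) := (w.map fun b => if b then t5 else s5).prod

theorem gens_mem : s5 ∈ alternatingGroup (Fin 5) ∧ t5 ∈ alternatingGroup (Fin 5) := by
  simp only [Perm.mem_alternatingGroup]; decide +kernel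

theorem checkWords : ∀ g : Perm (Fin 5), Perm.sign g = 1 → words5.any (fun w => decide (ev5 w = g)) = true := by
  decide +kernel

theorem checkAltS : ∀ g : Perm (Fin 5), Perm.sign g = 1 →
    (meq (elM (lk (g * s5))) (mm (elM (lk g)) (elM (lk s5))) &&
      meq (elM (lk (g * t5))) (mm (elM (lk g)) (elM (lk t5))) &&
      !meq (elM (lk g)) (mm (hEl iT) one)) = true := by
  decide +kernel

theorem checkAltBase : (meq (elM (lk 1)) one && !meq (elM (lk s5)) one &&
    meq (mm (hEl iT) (hEl iT)) one && !meq (mm (hEl iT) one) one &&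
    meq (mm (hEl iT) (elM (lk s5))) (mm (elM (lk s5)) (hEl iT)) &&
    meq (mm (hEl iT) (elM (lk t5))) (mm (elM (lk t5)) (hEl iT))) = true := by
  decide +kernel

theorem checkTrt : ((List.range 266).all fun j =>
    decide ((trtTbl.getD j (0, 0)).1 < 660) && decide ((trtTbl.getD j (0, 0)).2 < 266) &&
      meq (mm (tEl j) (hEl iT)) (elem (trtTbl.getD j (0, 0))) &&
      ((trtTbl.getD j (0, 0)).2 != j || fixT.contains j)) = true := by
  decide +kernel

theorem checkCentT : (fixT.all fun j => (List.range 660).all fun i =>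
    !meq (mm (mm (hEl i) (tEl j)) (hEl iT)) (mm (hEl iT) (mm (hEl i) (tEl j))) ||
      altTbl.any fun e => meq (mm (mm (hEl i) (tEl j)) one) (mm (elM e.2) one) ||
        meq (mm (mm (hEl i) (tEl j)) one) (mm (hEl iT) (elM e.2))) = true := by
  decide +kernel

theorem checkTblCodes : ∀ e ∈ altTbl, words5.any (fun w => lk (ev5 w) == e.2) = true := by
  decide +kernel

theorem eq_of_toMat_ne {A B : M7} (hA : Red A) (hB : Red B) {g h : J} (rg : Reps A g)
    (rh : Reps B h) (hne : meq A B = false) : g ≠ h := fun e => by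
  have : meq A B = true := meq_of_toMat_eq hA hB (by rw [← rg, ← rh, e])
  rw [hne] at this
  exact Bool.noConfusion this

theorem red_elM (p : Fin 660 × Fin 266) : Red (elM p) := red_mm _ _

theorem F0_step {g : Perm (Fin 5)} (hg : Perm.sign g = 1) :
    F0 (g * s5) = F0 g * F0 s5 ∧ F0 (g * t5) = F0 g * F0 t5 ∧ F0 g ≠ invol := by
  have h := checkAltS g hg
  simp only [Bool.and_eq_true, Bool.not_eq_true'] at h
  exact ⟨(reps_el _).eq ((reps_el _).mul (reps_el _)) h.1.1,
    (reps_el _).eq ((reps_el _).mul (reps_el _)) h.1.2,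
    eq_of_toMat_ne (red_elM _) (red_mm _ _) (reps_el _) (mm_one_eq (reps_hU iT)) h.2⟩

theorem base_facts : F0 1 = 1 ∧ F0 s5 ≠ 1 ∧ invol * invol = 1 ∧ invol ≠ 1 ∧
    Commute invol (F0 s5) ∧ Commute invol (F0 t5) := by
  have h := checkAltBase
  simp only [Bool.and_eq_true, Bool.not_eq_true'] at h
  obtain ⟨⟨⟨⟨⟨h1, h2⟩, h3⟩, h4⟩, h5⟩, h6⟩ := h
  exact ⟨(reps_el _).eq reps_one h1, eq_of_toMat_ne (red_elM _) red_one (reps_el _) reps_one h2,
    ((reps_hU iT).mul (reps_hU iT)).eq reps_one h3,
    eq_of_toMat_ne (red_mm _ _) red_one (mm_one_eq (reps_hU iT)) reps_one h4,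
    ((reps_hU iT).mul (reps_el _)).eq ((reps_el _).mul (reps_hU iT)) h5,
    ((reps_hU iT).mul (reps_el _)).eq ((reps_el _).mul (reps_hU iT)) h6⟩

theorem sign_ev5 (w : List Bool) : Perm.sign (ev5 w) = 1 := by
  induction w with
  | nil => simp [ev5]
  | cons b w ih =>
    have : ev5 (b :: w) = (if b then t5 else s5) * ev5 w := rfl
    rw [this, map_mul, ih, mul_one]
    cases b <;> simp [Perm.mem_alternatingGroup.1 gens_mem.1, Perm.mem_alternatingGroup.1 gens_mem.2]

theorem F0_mul_ev5 (g : Perm (Fin 5)) (hg : Perm.sign g = 1) (w : List Bool) :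
    F0 (g * ev5 w) = F0 g * (w.map fun b => if b then F0 t5 else F0 s5).prod := by
  induction w using List.reverseRecOn with
  | nil => simp [ev5]
  | append_singleton w b ih =>
    have hw : Perm.sign (g * ev5 w) = 1 := by rw [map_mul, hg, sign_ev5, one_mul]
    have e : ev5 (w ++ [b]) = ev5 w * (if b then t5 else s5) := by simp [ev5]
    rw [e, ← mul_assoc, List.map_append, List.prod_append, ← mul_assoc, ← ih]
    cases b
    · simpa using (F0_step hw).1
    · simpa using (F0_step hw).2.1

/-- The embedding of `A₅` in the centralizer. -/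
noncomputable def altHom : ↥(alternatingGroup (Fin 5)) →* J :=
  MonoidHom.mk' (fun g => F0 g.1) fun g k => by
    obtain ⟨w, -, hw⟩ := List.any_eq_true.1 (checkWords k.1 (Perm.mem_alternatingGroup.1 k.2))
    have hw' : ev5 w = k.1 := of_decide_eq_true hw
    show F0 (g.1 * k.1) = F0 g.1 * F0 k.1
    rw [← hw', F0_mul_ev5 _ (Perm.mem_alternatingGroup.1 g.2)]
    congr 1
    have := F0_mul_ev5 1 (map_one _) w
    rw [one_mul, base_facts.1, one_mul] at this
    exact this.symm

theorem altHom_injective : Function.Injective altHom := by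
  refine (MonoidHom.ker_eq_bot_iff altHom).1
    (((inferInstance : altHom.ker.Normal).eq_bot_or_eq_top).resolve_right fun h => ?_)
  exact base_facts.2.1 (MonoidHom.mem_ker.1
    (h ▸ Subgroup.mem_top (⟨s5, gens_mem.1⟩ : ↥(alternatingGroup (Fin 5)))))

theorem commute_altHom (g : ↥(alternatingGroup (Fin 5))) : Commute invol (altHom g) := by
  obtain ⟨w, -, hw⟩ := List.any_eq_true.1 (checkWords g.1 (Perm.mem_alternatingGroup.1 g.2))
  have hw' : ev5 w = g.1 := of_decide_eq_true hw
  show Commute invol (F0 g.1)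
  have := F0_mul_ev5 1 (map_one _) w
  rw [one_mul, base_facts.1, one_mul, hw'] at this
  rw [this]
  refine Commute.list_prod_right _ _ fun x hx => ?_
  obtain ⟨b, -, rfl⟩ := List.mem_map.1 hx
  cases b
  · exact base_facts.2.2.2.2.1
  · exact base_facts.2.2.2.2.2

theorem cover_cent {g : J} (hg : g * invol = invol * g) :
    ∃ k : ↥(alternatingGroup (Fin 5)), g = altHom k ∨ g = invol * altHom k := by
  obtain ⟨i, j, rfl⟩ := cover g
  have hj := fixed_coset checkTrt i j hg
  have h := checkCentT
  simp only [List.all_eq_true, List.any_eq_true, List.mem_range, Bool.or_eq_true,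
    Bool.not_eq_true'] at h
  have r1 := ((reps_hU i).mul (reps_tU j)).mul (reps_hU iT)
  have r2 := (reps_hU iT).mul ((reps_hU i).mul (reps_tU j))
  rcases h j hj i i.2 with h | ⟨e, he, hk⟩
  · exact absurd hg (eq_of_toMat_ne (red_mm _ _) (red_mm _ _) r1 r2 h)
  obtain ⟨w, -, hw⟩ := List.any_eq_true.1 (checkTblCodes e he)
  refine ⟨⟨ev5 w, Perm.mem_alternatingGroup.2 (sign_ev5 w)⟩, ?_⟩
  show _ = F0 (ev5 w) ∨ _ = invol * F0 (ev5 w)
  rw [F0, beq_iff_eq.1 hw]
  rcases hk with hk | hk
  · exact Or.inl ((mm_one_eq ((reps_hU i).mul (reps_tU j))).eq (mm_one_eq (reps_el e.2)) hk)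
  · exact Or.inr ((mm_one_eq ((reps_hU i).mul (reps_tU j))).eq ((reps_hU iT).mul (reps_el e.2)) hk)

theorem orderOf_invol : orderOf invol = 2 :=
  orderOf_eq_prime (by rw [pow_two]; exact base_facts.2.2.1) base_facts.2.2.2.1

/-- The centralizer of the involution is `2 × A₅`. -/
theorem exists_involution_centralizer :
    ∃ t : ↥Cfsg.Spor.J1, orderOf t = 2 ∧ Nonempty (↥(Subgroup.centralizer ({t} : Set ↥Cfsg.Spor.J1))
      ≃* Multiplicative (ZMod 2) × ↥(alternatingGroup (Fin 5))) := by
  refine ⟨invol, orderOf_invol, ⟨?_⟩⟩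
  set C := Subgroup.centralizer ({invol} : Set J)
  have hmem : ∀ x, x ∈ C ↔ x * invol = invol * x := fun x => Subgroup.mem_centralizer_singleton_iff
  haveI : IsCyclic (Subgroup.zpowers invol) := inferInstance
  let z : Multiplicative (ZMod 2) →* J := (Subgroup.zpowers invol).subtype.comp
    ((AddEquiv.toMultiplicative (ZMod.ringEquivCongr
      (show 2 = Nat.card (Subgroup.zpowers invol) by rw [Nat.card_zpowers, orderOf_invol])).toAddEquiv).trans
      (zmodCyclicMulEquiv inferInstance)).toMonoidHom
  have hzmem : ∀ a, z a ∈ Subgroup.zpowers invol := fun a => SetLike.coe_mem _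
  have hzinj : Function.Injective z := Subtype.val_injective.comp (MulEquiv.injective _)
  have hzone : ∀ a, z a = 1 ∨ z a = invol := fun a => by
    obtain ⟨k, hk⟩ := Subgroup.mem_zpowers_iff.1 (hzmem a)
    rw [← zpow_mod_orderOf, orderOf_invol] at hk
    rcases Int.emod_two_eq_zero_or_one k with h | h
    · exact Or.inl (hk.symm.trans (by simp [h]))
    · exact Or.inr (hk.symm.trans (by simp [h]))
  have hcomm : ∀ a g, Commute (z a) (altHom g) := fun a g => by
    rcases hzone a with h | h <;> rw [h]
    · exact Commute.one_left _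
    · exact commute_altHom g
  let φ := z.noncommCoprod altHom hcomm
  have hφ : ∀ a g, φ (a, g) = z a * altHom g := fun a g => rfl
  have hin : ∀ p, φ p ∈ C := fun p => by
    obtain ⟨a, g⟩ := p
    rw [hmem, hφ]
    rcases hzone a with h | h <;> rw [h]
    · rw [one_mul]; exact (commute_altHom g).symm.eq
    · exact ((Commute.refl invol).mul_left (commute_altHom g).symm).eq
  refine (MulEquiv.ofBijective (φ.codRestrict C hin) ⟨?_, ?_⟩).symm
  · refine (injective_iff_map_eq_one _).2 fun p hp => ?_
    obtain ⟨a, g⟩ := p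
    have h1 : z a * altHom g = 1 := (hφ a g).symm.trans (congrArg Subtype.val hp)
    rcases hzone a with h | h <;> rw [h] at h1
    · rw [one_mul] at h1
      exact Prod.ext (hzinj (h.trans (map_one z).symm)) (altHom_injective (h1.trans (map_one _).symm))
    · have h2 : altHom g = invol := by
        rw [← inv_eq_of_mul_eq_one_right h1]
        exact inv_eq_of_mul_eq_one_right base_facts.2.2.1
      exact absurd h2 (F0_step (Perm.mem_alternatingGroup.1 g.2)).2.2
  · rintro ⟨x, hx⟩
    obtain ⟨k, h | h⟩ := cover_cent ((hmem x).1 hx)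
    · exact ⟨(1, k), Subtype.ext (((hφ 1 k).trans (by rw [map_one, one_mul])).trans h.symm)⟩
    · obtain ⟨a, ha⟩ : ∃ a, z a = invol := by
        refine ⟨Multiplicative.ofAdd 1, (hzone _).resolve_left fun e => ?_⟩
        have := hzinj (e.trans (map_one z).symm)
        exact absurd this (by decide)
      exact ⟨(a, k), Subtype.ext (((hφ a k).trans (by rw [ha])).trans h.symm)⟩

end CfsgLib.JankoOne
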