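import Cfsg.Agent.Lib.JankoOne.Facts
import Cfsg.Agent.Lib.OutMathieu.Rigid

/-!
Every automorphism of the first Janko group is inner.
-/

set_option autoImplicit false
set_option maxRecDepth 100000

namespace CfsgLib.JankoOne

open CfsgLib.SporadicB.J1Cert

attribute [local irreducible] mm meq hEl tEl

theorem fix_eq_one {φ : MulAut J} (ha : φ a = a) (hb : φ b = b) : φ = 1 := by
  obtain ⟨-, hb10, -, -, hfb, hX, hY, hrel⟩ := rel_facts
  have hcomm : f⁻¹ * φ f * b = b * (f⁻¹ * φ f) := by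
    have e := congrArg φ hfb
    rw [map_mul, map_mul, map_inv, map_pow, hb, ← hfb] at e
    calc f⁻¹ * φ f * b = f⁻¹ * (φ f * b * (φ f)⁻¹) * φ f := by group
      _ = b * (f⁻¹ * φ f) := by rw [e]; group
  obtain ⟨k, hk, hk'⟩ := exists_pow_of_comm_b hcomm
  have hφf : φ f = f * b ^ k := by rw [← hk']; group
  have hk0 : k = 0 := by
    by_contra hne
    obtain ⟨w, hw, hne'⟩ := candidates k hk hne
    refine hne' ?_
    have := congrArg φ (hrel w hw)
    rw [map_wG, map_one] at this
    simpa [ha, hb, hφf] using this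
  rw [hk0, pow_zero, mul_one] at hφf
  have hfix : ∀ w : List Nat, φ (wG [a, b, f] w) = wG [a, b, f] w := fun w => by
    rw [map_wG]; simp [ha, hb, hφf]
  refine MulEquiv.ext fun g => ?_
  have hg : g ∈ φ.toMonoidHom.eqLocus (MonoidHom.id J) := by
    obtain ⟨z, hz⟩ := g
    induction hz using Subgroup.closure_induction with
    | mem w hw =>
      rcases hw with rfl | rfl
      · show φ gx = gx
        rw [← hX]; exact hfix _
      · show φ gy = gy
        rw [← hY]; exact hfix _
    | one => exact one_mem (φ.toMonoidHom.eqLocus (MonoidHom.id J))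
    | mul p q _ _ ihp ihq => exact mul_mem (s := φ.toMonoidHom.eqLocus (MonoidHom.id J)) ihp ihq
    | inv p _ ihp => exact inv_mem (s := φ.toMonoidHom.eqLocus (MonoidHom.id J)) ihp
  exact hg

theorem natCard_out_J1 : Nat.card (Cfsg.Out J) = 1 := by
  obtain ⟨ha11, hb10, hba, -, -, -, -, -⟩ := rel_facts
  haveI : Fact (Nat.Prime 11) := ⟨by norm_num⟩
  have hnorm := CfsgLib.OutMathieu.exists_normalised (p := 11) (r := 2) (a := a) (b := b)
    (orderOf_eq_prime ha11 a_ne_one) (by rw [card_J]; decide +kernel) hba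
    (fun g hg => mem_zpowers_of_comm_a hg) (by decide +kernel) (by decide +kernel)
  have hb5 : b ^ 5 * a * (b ^ 5)⁻¹ = a⁻¹ := by
    have hc : ∀ k : ℕ, b * a ^ k * b⁻¹ = a ^ (2 * k) := fun k => by
      rw [← conj_pow, hba, ← pow_mul]
    have : b ^ 5 * a * (b ^ 5)⁻¹ = a ^ 32 := by
      calc b ^ 5 * a * (b ^ 5)⁻¹ = b * (b * (b * (b * (b * a ^ 1 * b⁻¹) * b⁻¹) * b⁻¹) * b⁻¹) * b⁻¹ := by
            simp only [pow_succ, pow_zero, one_mul, mul_inv_rev, mul_assoc]
        _ = a ^ 32 := by rw [hc, hc, hc, hc, hc]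
    rw [this]
    refine eq_inv_of_mul_eq_one_left ?_
    rw [← pow_succ, show 32 + 1 = 11 * 3 by norm_num, pow_mul, ha11, one_pow]
  have htop : Cfsg.Inn J = ⊤ := by
    rw [eq_top_iff]
    intro φ _
    obtain ⟨g, hgb, hga | hga⟩ := hnorm φ
    · rw [eq_inv_of_mul_eq_one_right (fix_eq_one hga hgb)]
      exact inv_mem ⟨g, rfl⟩
    · have h1 : (MulAut.conj (b ^ 5 * g) * φ) a = a := by
        rw [map_mul, mul_assoc, MulAut.mul_apply, hga, map_inv, MulAut.conj_apply, hb5, inv_inv]
      have h2 : (MulAut.conj (b ^ 5 * g) * φ) b = b := by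
        rw [map_mul, mul_assoc, MulAut.mul_apply, hgb, MulAut.conj_apply,
          ((Commute.refl b).pow_left 5).eq, mul_inv_cancel_right]
      rw [eq_inv_of_mul_eq_one_right (fix_eq_one h1 h2)]
      exact inv_mem ⟨_, rfl⟩
  rw [Cfsg.Out, ← Subgroup.index_eq_card, htop, Subgroup.index_top]

end CfsgLib.JankoOne
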